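import Cfsg.Agent.H729.M22Deg

/-!
# S4816 (helper956): the subgroup `2^3:7` of `M₂₂`

`x` of order `7` and an involution `b` with `b (x b x⁻¹) = x⁵ b x⁻⁵`, `b` commutes with `xᵏ b x⁻ᵏ`.
-/

set_option autoImplicit false

namespace Cfsg.Agent.H956.RIM.M22El

open Cfsg Cfsg.Agent.SporadicA.GolayBase Cfsg.Agent.SporadicA.GolayPerm
open Cfsg.Agent.SporadicStructure.M24El Cfsg.Agent.H729.MData
open Cfsg.Agent.H729.M22Deg (inc inc_injective exists_el orderOf_inc oM7)

/-- the involution -/
def cb : ℕ := 984371793754216887572750120113119264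

/-- powers -/
def pw (c : ℕ) : ℕ → ℕ
  | 0 => c
  | k + 1 => pcomp (pw c k) c

theorem pw_spec {c : ℕ} (hc : ok c = true) (k : ℕ) : ok (pw c k) = true ∧ el (pw c k) = el c ^ (k + 1) := by
  induction k with
  | zero => exact ⟨hc, by rw [pow_one]; rfl⟩
  | succ k ih => exact ⟨ok_pcomp ih.1 hc, by
      show el (pcomp (pw c k) c) = _
      rw [el_pcomp ih.1 hc, ih.2, ← pow_succ]⟩

theorem ok7 : ok cM7 = true := by decide +kernel
theorem okb : ok cb = true := by decide +kernel

/-- the value of a word: `(true, k)` is `x^(k+1)`, `(false, _)` is `b` -/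
def lt : Bool × ℕ → ℕ
  | (true, k) => pw cM7 k
  | (false, _) => cb

/-- the value of a nonempty word -/
def wd (a : Bool × ℕ) : List (Bool × ℕ) → ℕ
  | [] => lt a
  | b :: l => pcomp (lt a) (wd b l)

/-- the group value of a letter -/
noncomputable def gl : Bool × ℕ → M24
  | (true, k) => el cM7 ^ (k + 1)
  | (false, _) => el cb

theorem lt_spec (a : Bool × ℕ) : ok (lt a) = true ∧ el (lt a) = gl a := by
  rcases a with ⟨b, k⟩
  cases b
  · exact ⟨okb, rfl⟩
  · exact pw_spec ok7 k

theorem wd_spec (a : Bool × ℕ) (l : List (Bool × ℕ)) :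
    ok (wd a l) = true ∧ el (wd a l) = ((a :: l).map gl).prod := by
  induction l generalizing a with
  | nil =>
    rw [List.map_singleton, List.prod_singleton]
    exact lt_spec a
  | cons b l ih =>
    obtain ⟨h1, h2⟩ := lt_spec a
    obtain ⟨h3, h4⟩ := ih b
    refine ⟨ok_pcomp h1 h3, ?_⟩
    rw [List.map_cons, List.prod_cons, ← h4, ← h2]
    exact el_pcomp h1 h3

theorem rel_of {a b : Bool × ℕ} {l m : List (Bool × ℕ)} (h : wd a l = wd b m) :
    ((a :: l).map gl).prod = ((b :: m).map gl).prod := by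
  rw [← (wd_spec a l).2, ← (wd_spec b m).2, h]

theorem r0 : el cb * el cM7 * el cb * el cM7 ^ 6 = el cM7 ^ 5 * el cb * el cM7 ^ 2 := by
  have h := rel_of (a := (false, 0)) (b := (true, 4)) (l := [(true, 0), (false, 0), (true, 5)])
    (m := [(false, 0), (true, 1)]) (by decide +kernel)
  simpa [gl, mul_assoc] using h

theorem r1 : el cb * el cM7 * el cb * el cM7 ^ 6 = el cM7 * el cb * el cM7 ^ 6 * el cb := by
  have h := rel_of (a := (false, 0)) (b := (true, 0)) (l := [(true, 0), (false, 0), (true, 5)])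
    (m := [(false, 0), (true, 5), (false, 0)]) (by decide +kernel)
  simpa [gl, mul_assoc] using h

theorem r2 : el cb * el cM7 ^ 2 * el cb * el cM7 ^ 5 = el cM7 ^ 2 * el cb * el cM7 ^ 5 * el cb := by
  have h := rel_of (a := (false, 0)) (b := (true, 1)) (l := [(true, 1), (false, 0), (true, 4)])
    (m := [(false, 0), (true, 4), (false, 0)]) (by decide +kernel)
  simpa [gl, mul_assoc] using h

theorem r3 : el cb * el cM7 ^ 3 * el cb * el cM7 ^ 4 = el cM7 ^ 3 * el cb * el cM7 ^ 4 * el cb := by
  have h := rel_of (a := (false, 0)) (b := (true, 2)) (l := [(true, 2), (false, 0), (true, 3)])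
    (m := [(false, 0), (true, 3), (false, 0)]) (by decide +kernel)
  simpa [gl, mul_assoc] using h

theorem rb : el cb * el cb * el cM7 = el cM7 := by
  have h := rel_of (a := (false, 0)) (b := (true, 0)) (l := [(false, 0), (true, 0)])
    (m := []) (by decide +kernel)
  simpa [gl, mul_assoc] using h

theorem ne : el cb * el cM7 ≠ el cM7 * el cb := by
  intro h
  have h1 := wd_spec (false, 0) [(true, 0)]
  have h2 := wd_spec (true, 0) [(false, 0)]
  have h3 : el (wd (false, 0) [(true, 0)]) = el (wd (true, 0) [(false, 0)]) := by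
    rw [h1.2, h2.2]
    simpa [gl] using h
  have h5 : ∀ i : Fin 24, papp (wd (false, 0) [(true, 0)]) i = papp (wd (true, 0) [(false, 0)]) i := by
    intro i
    have h6 := idx_el_smul h1.1 (pt i)
    rw [h3, idx_el_smul h2.1, idx_pt i.2] at h6
    exact h6.symm
  revert h5
  decide +kernel

/-- **the data** -/
theorem exists_data : ∃ x b : Spor.M22, orderOf x = 7 ∧ b * b = 1 ∧ b * x ≠ x * b ∧
    b * x * b * x ^ 6 = x ^ 5 * b * x ^ 2 ∧ b * x * b * x ^ 6 = x * b * x ^ 6 * b ∧
    b * x ^ 2 * b * x ^ 5 = x ^ 2 * b * x ^ 5 * b ∧ b * x ^ 3 * b * x ^ 4 = x ^ 3 * b * x ^ 4 * b := by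
  obtain ⟨x, hx⟩ := exists_el ok7 (by decide +kernel) (by decide +kernel)
  obtain ⟨b, hb⟩ := exists_el okb (by decide +kernel) (by decide +kernel)
  refine ⟨x, b, by rw [← orderOf_inc, hx, oM7], ?_, ?_, ?_, ?_, ?_, ?_⟩
  · apply inc_injective
    rw [map_mul, hb, map_one]
    exact mul_eq_right.1 rb
  · intro h
    apply ne
    rw [← hx, ← hb, ← map_mul, ← map_mul, h]
  · apply inc_injective
    simp only [map_mul, map_pow, hx, hb]
    exact r0
  · apply inc_injective
    simp only [map_mul, map_pow, hx, hb]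
    exact r1
  · apply inc_injective
    simp only [map_mul, map_pow, hx, hb]
    exact r2
  · apply inc_injective
    simp only [map_mul, map_pow, hx, hb]
    exact r3

end Cfsg.Agent.H956.RIM.M22El
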