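import Cfsg.Agent.H956.RIM.NoSub
import Cfsg.Agent.H956.RIM.M22El
import Cfsg.Agent.H620.RIM.Mult
import Cfsg.Agent.H88.RIM.T3
import Cfsg.Agent.H257.RIM.EKOf

/-!
# S4816 (helper956): `EK 11` for `M₂₂`
-/

set_option autoImplicit false

namespace Cfsg.Agent.H956.RIM.M22

open Cfsg Subgroup
open scoped commutatorElement

universe u

/-- the conjugates -/
def cj {H : Type*} [Group H] (y a : H) (i : ℕ) : H := y ^ i * a * (y ^ i)⁻¹

section ab

variable {H : Type*} [Group H] {y a : H}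

theorem cj_add (i j : ℕ) : cj y a (i + j) = y ^ i * cj y a j * (y ^ i)⁻¹ := by
  unfold cj
  rw [pow_add]
  group

theorem cj_add7 (hy : y ^ 7 = 1) (i : ℕ) : cj y a (i + 7) = cj y a i := by
  unfold cj
  rw [pow_add, hy, mul_one]

theorem cj_mod (hy : y ^ 7 = 1) (i : ℕ) : cj y a i = cj y a (i % 7) := by
  have h : y ^ i = y ^ (i % 7) := by
    conv_lhs => rw [← Nat.mod_add_div i 7]
    rw [pow_add, pow_mul, hy, one_pow, mul_one]
  unfold cj
  rw [h]

theorem comm_shift {k : ℕ} (hk : ⁅a, cj y a k⁆ ∈ center H) (i : ℕ) :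
    ⁅cj y a i, cj y a (i + k)⁆ = ⁅a, cj y a k⁆ := by
  have h1 : ⁅cj y a i, cj y a (i + k)⁆ = y ^ i * ⁅a, cj y a k⁆ * (y ^ i)⁻¹ := by
    rw [cj_add]
    simp only [cj, commutatorElement_def]
    group
  rw [h1, mem_center_iff.1 hk (y ^ i), mul_inv_cancel_right]

theorem comm_mul {g u v : H} (hv : ⁅g, v⁆ ∈ center H) : ⁅g, u * v⁆ = ⁅g, u⁆ * ⁅g, v⁆ := by
  have h1 := mem_center_iff.1 hv u
  have h2 : ⁅g, u * v⁆ = ⁅g, u⁆ * (u * ⁅g, v⁆ * u⁻¹) := by
    simp only [commutatorElement_def]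
    group
  rw [h2, h1, mul_inv_cancel_right]

/-- the conjugates commute -/
theorem all_comm (hy : y ^ 7 = 1) (h1 : ⁅a, cj y a 1⁆ ∈ center H) (h2 : ⁅a, cj y a 2⁆ ∈ center H)
    (h3 : ⁅a, cj y a 3⁆ ∈ center H) {z : H} (hz : z ∈ center H) (h5 : a * cj y a 1 = z * cj y a 5) (i j : ℕ) :
    cj y a i * cj y a j = cj y a j * cj y a i := by
  have e0 : cj y a 0 = a := by simp [cj]
  have hg : ∀ g : H, ⁅g, a * cj y a 1⁆ = ⁅g, cj y a 5⁆ := by
    intro g
    rw [h5, commutatorElement_def, commutatorElement_def]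
    have := mem_center_iff.1 hz g
    calc g * (z * cj y a 5) * g⁻¹ * (z * cj y a 5)⁻¹ = (g * z) * cj y a 5 * g⁻¹ * (z * cj y a 5)⁻¹ := by group
      _ = z * (g * cj y a 5 * g⁻¹ * (cj y a 5)⁻¹) * z⁻¹ := by rw [this]; group
      _ = _ := by rw [← mem_center_iff.1 hz, mul_inv_cancel_right]
  -- a0
  have f1 : ⁅a, cj y a 1⁆ = ⁅a, cj y a 2⁆⁻¹ := by
    have q := hg a
    rw [comm_mul h1, commutatorElement_self, one_mul] at q
    have q2 := comm_shift h2 5
    rw [show 5 + 2 = 0 + 7 from rfl, cj_add7 hy, e0] at q2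
    rw [q, ← q2, commutatorElement_inv]
  have f2 : ⁅a, cj y a 1⁆⁻¹ = ⁅a, cj y a 3⁆⁻¹ := by
    have q := hg (cj y a 1)
    rw [comm_mul (by rw [commutatorElement_self]; exact one_mem _), commutatorElement_self, mul_one,
      ← commutatorElement_inv] at q
    have q2 := comm_shift h3 5
    rw [show 5 + 3 = 1 + 7 from rfl, cj_add7 hy] at q2
    rw [q, ← q2, commutatorElement_inv]
  have f3 : ⁅a, cj y a 3⁆ = ⁅a, cj y a 2⁆⁻¹ * ⁅a, cj y a 1⁆⁻¹ := by
    have q := hg (cj y a 2)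
    have q1 := comm_shift h1 1
    rw [show 1 + 1 = 2 from rfl] at q1
    rw [comm_mul (by rw [← commutatorElement_inv, q1]; exact inv_mem h1), ← commutatorElement_inv a,
      ← commutatorElement_inv (cj y a 1), q1] at q
    have q2 := comm_shift h3 2
    rw [← q2]
    exact q.symm
  have g3 : ⁅a, cj y a 3⁆ = 1 := by
    rw [f3, ← f1, mul_inv_cancel]
  have g1 : ⁅a, cj y a 1⁆ = 1 := by
    rw [g3, inv_one, inv_eq_one] at f2
    exact f2
  have g2 : ⁅a, cj y a 2⁆ = 1 := by
    rw [g1] at f1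
    exact inv_eq_one.1 f1.symm
  have key : ∀ k, k < 7 → ∀ i, cj y a i * cj y a (i + k) = cj y a (i + k) * cj y a i := by
    have hk : ∀ k, ⁅a, cj y a k⁆ = 1 → ∀ i, cj y a i * cj y a (i + k) = cj y a (i + k) * cj y a i := by
      intro k hk i
      have := comm_shift (k := k) (by rw [hk]; exact one_mem _) i
      rw [hk] at this
      exact commutatorElement_eq_one_iff_mul_comm.1 this
    have hk' : ∀ k, k ≤ 7 → ⁅a, cj y a k⁆ = 1 → ∀ i, cj y a i * cj y a (i + (7 - k)) =
        cj y a (i + (7 - k)) * cj y a i := by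
      intro k hk7 h i
      have := hk k h (i + (7 - k))
      rw [show i + (7 - k) + k = i + 7 by omega, cj_add7 hy] at this
      exact this.symm
    intro k hk7
    interval_cases k
    · intro i; rfl
    · exact hk 1 g1
    · exact hk 2 g2
    · exact hk 3 g3
    · exact hk' 3 (by norm_num) g3
    · exact hk' 2 (by norm_num) g2
    · exact hk' 1 (by norm_num) g1
  rcases le_total (i % 7) (j % 7) with h | h
  · have := key (j % 7 - i % 7) (by omega) (i % 7)
    rw [show i % 7 + (j % 7 - i % 7) = j % 7 by omega, ← cj_mod hy, ← cj_mod hy] at this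
    exact this
  · have := key (i % 7 - j % 7) (by omega) (j % 7)
    rw [show j % 7 + (i % 7 - j % 7) = i % 7 by omega, ← cj_mod hy, ← cj_mod hy] at this
    exact this.symm

end ab

/-- **`EK 11` for `M₂₂`** -/
theorem ek_m22 {S : Type u} [Group S] [Finite S] (h0 : Spor.IsoM22 S) : H665.RIM.EK.{u} 11 S := by
  intro H V _ _ _ _ _ K N φ π h hπ hker hKN
  have hKc : K ≤ center H := fun k hk => H257.RIM.central_of_comm h.perf k fun g => h.cen (hKN k hk g)
  have h12 : Nat.card K ∣ 12 := by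
    rw [← hker]
    exact H620.RIM.dvd_m22.{u} h0 H π hπ (by rw [hker]; exact hKc) h.perf
  have hk12 : ∀ z ∈ K, z ^ 12 = 1 := by
    intro z hz
    have h1 : (⟨z, hz⟩ : K) ^ Nat.card K = 1 := pow_card_eq_one'
    have h2 : (⟨z, hz⟩ : K) ^ 12 = 1 := by
      obtain ⟨m, hm⟩ := h12
      rw [hm, pow_mul, h1, one_pow]
    exact congrArg Subtype.val h2
  obtain ⟨e⟩ := h0
  set ψ : H →* Spor.M22 := e.toMonoidHom.comp π with hψ
  have hψs : Function.Surjective ψ := e.surjective.comp hπ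
  have hψk : ∀ g, ψ g = 1 ↔ g ∈ K := by
    intro g
    rw [← hker, MonoidHom.mem_ker]
    exact map_eq_one_iff e e.injective
  have hψk2 : ∀ g k, ψ g = ψ k → g * k⁻¹ ∈ K := by
    intro g k hgk
    rw [← hψk, map_mul, map_inv, hgk, mul_inv_cancel]
  obtain ⟨x, b, hx, hbb, hbx, r0, r1, r2, r3⟩ := M22El.exists_data
  have hx7 : x ^ 7 = 1 := by rw [← hx]; exact pow_orderOf_eq_one x
  obtain ⟨y, hy7, hyx⟩ : ∃ y : H, y ^ 7 = 1 ∧ ψ y = x := by
    obtain ⟨y0, hy0⟩ := hψs x
    refine ⟨y0 ^ 36, ?_, ?_⟩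
    · have h1 : y0 ^ 7 ∈ K := by rw [← hψk, map_pow, hy0, hx7]
      have h2 := hk12 _ h1
      rw [← pow_mul] at h2 ⊢
      rw [show 36 * 7 = (7 * 12) * 3 by norm_num, pow_mul, h2, one_pow]
    · rw [map_pow, hy0, show 36 = 7 * 5 + 1 by norm_num, pow_add, pow_mul, hx7, one_pow, one_mul, pow_one]
  obtain ⟨a, hab⟩ := hψs b
  have hcj : ∀ k, ψ (cj y a k) = x ^ k * b * (x ^ k)⁻¹ := by
    intro k
    rw [cj, map_mul, map_mul, map_inv, map_pow, hab, hyx]
  have hxinv : ∀ k, k ≤ 7 → (x ^ k)⁻¹ = x ^ (7 - k) := by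
    intro k hk
    rw [inv_eq_iff_mul_eq_one, ← pow_add, Nat.add_sub_cancel' hk, hx7]
  have hcen : ∀ k, k ≤ 7 → b * x ^ k * b * x ^ (7 - k) = x ^ k * b * x ^ (7 - k) * b → ⁅a, cj y a k⁆ ∈ center H := by
    intro k hk7 hr
    apply hKc
    rw [← hψk, map_commutatorElement, commutatorElement_eq_one_iff_mul_comm, hcj, hab, hxinv k hk7]
    rw [← mul_assoc, ← mul_assoc]
    exact hr
  have c1 := hcen 1 (by norm_num) (by rw [pow_one]; exact r1)
  have c2 := hcen 2 (by norm_num) r2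
  have c3 := hcen 3 (by norm_num) r3
  obtain ⟨z, hz, hz5⟩ : ∃ z ∈ center H, a * cj y a 1 = z * cj y a 5 := by
    refine ⟨a * cj y a 1 * (cj y a 5)⁻¹, hKc (hψk2 _ _ ?_), by group⟩
    rw [map_mul, hcj, hcj, hab, hxinv 1 (by norm_num), hxinv 5 (by norm_num), pow_one, ← mul_assoc, ← mul_assoc]
    exact r0
  have hcomm := all_comm hy7 c1 c2 c3 hz hz5
  -- the abelian subgroup
  set A : Subgroup H := closure (Set.range (cj y a)) with hA
  have hAab : ∀ u ∈ A, ∀ v ∈ A, u * v = v * u := by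
    intro u hu v hv
    have h1 : A ≤ centralizer (A : Set H) := by
      rw [hA, closure_le]
      rintro _ ⟨i, rfl⟩
      rw [SetLike.mem_coe, mem_centralizer_iff]
      intro w hw
      have h2 : closure (Set.range (cj y a)) ≤ centralizer {cj y a i} := by
        rw [closure_le]
        rintro _ ⟨j, rfl⟩
        rw [SetLike.mem_coe, mem_centralizer_iff]
        rintro _ rfl
        exact hcomm i j
      exact (mem_centralizer_iff.1 (h2 hw) _ rfl).symm
    exact mem_centralizer_iff.1 (h1 hv) u hu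
  have hAn : ∀ u ∈ A, y * u * y⁻¹ ∈ A := by
    intro u hu
    have h1 : A ≤ A.comap (MulAut.conj y).toMonoidHom := by
      conv_lhs => rw [hA]
      rw [closure_le]
      rintro _ ⟨i, rfl⟩
      show y * cj y a i * y⁻¹ ∈ A
      apply Subgroup.subset_closure
      refine ⟨1 + i, ?_⟩
      rw [cj_add, pow_one]
    exact h1 hu
  have hAp : ∀ u ∈ A, u ^ 24 = 1 := by
    intro u hu
    induction hu using closure_induction with
    | mem u hu =>
      obtain ⟨i, rfl⟩ := hu
      have h1 : cj y a i ^ 2 ∈ K := by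
        rw [← hψk, map_pow, hcj, pow_two]
        have : x ^ i * b * (x ^ i)⁻¹ * (x ^ i * b * (x ^ i)⁻¹) = x ^ i * (b * b) * (x ^ i)⁻¹ := by group
        rw [this, hbb, mul_one, mul_inv_cancel]
      have h2 := hk12 _ h1
      rw [← pow_mul] at h2
      exact h2
    | one => exact one_pow _
    | mul u v hu hv ihu ihv =>
      have h1 : Commute u v := hAab u hu v hv
      rw [h1.mul_pow, ihu, ihv, one_mul]
    | inv u hu ih => rw [inv_pow, ih, inv_one]
  have hA11 : ¬ 11 ∣ Nat.card A := by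
    intro hd
    have : Fact (Nat.Prime 11) := ⟨by norm_num⟩
    obtain ⟨w, hw⟩ := exists_prime_orderOf_dvd_card' 11 hd
    have h1 : w ^ 24 = 1 := Subtype.ext (hAp _ w.2)
    have h2 := orderOf_dvd_of_pow_eq_one h1
    rw [hw] at h2
    norm_num at h2
  have haA : a ∈ A := Subgroup.subset_closure ⟨0, by simp [cj]⟩
  have htor : ∀ v : V, Nat.card A • v = 0 → v = 0 := by
    intro v hv
    have h1 : Nat.gcd (Nat.card A) 11 = 1 :=
      Nat.Coprime.symm (((by norm_num : Nat.Prime 11).coprime_iff_not_dvd).2 hA11)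
    have h2 := Nat.gcd_eq_gcd_ab (Nat.card A) 11
    rw [h1, Nat.cast_one] at h2
    have h3 := h.exp v
    have h4 : ((11 : ℕ) : ℤ) • v = 0 := by rw [natCast_zsmul]; exact h3
    rw [← one_smul ℤ v, h2, add_smul, mul_comm, mul_comm ((11 : ℕ) : ℤ), mul_smul, mul_smul, natCast_zsmul, h4, hv,
      smul_zero, smul_zero, add_zero]
  obtain ⟨v, hv0, hv⟩ : ∃ v : V, v ≠ 0 ∧ y • v = v := by
    by_contra hcon
    have hfix : ∀ v : V, y • v = v → v = 0 := by
      intro v hv
      by_contra h0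
      exact hcon ⟨v, h0, hv⟩
    have h1 : a * (y * a * y⁻¹)⁻¹ ∈ K := h.NK ((h.ker _).1 fun v =>
      H88.RIM.smul_eq_of_no_fixed (by norm_num : Nat.Prime 7) hy7 A hAn hAab htor hfix haA v)
    rw [← hψk, map_mul, map_inv, mul_inv_eq_one, map_mul, map_mul, map_inv, hab, hyx, eq_mul_inv_iff_mul_eq] at h1
    exact hbx h1
  -- the stabilizer
  have : Fact (Nat.Prime 11) := ⟨by norm_num⟩
  set X : Subgroup Spor.M22 := (MulAction.stabilizer H v).map ψ with hX
  have hX7 : 7 ∣ Nat.card X := by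
    rw [← hx]
    have h1 : x ∈ X := ⟨y, hv, hyx⟩
    have h2 : orderOf (⟨x, h1⟩ : X) = orderOf x := Subgroup.orderOf_mk x h1
    rw [← h2]
    exact orderOf_dvd_natCard _
  have hX11 : 11 ∣ Nat.card X := by
    have h1 : ¬ 11 ∣ X.index := by
      intro hd
      apply h.P1 v
      have h2 : X.index ∣ (MulAction.stabilizer H v).index := index_map_dvd _ hψs
      exact hd.trans h2
    have h2 : 11 ∣ Nat.card X * X.index := by
      rw [card_mul_index, NoSub.card22]
      norm_num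
    exact ((Nat.Prime.dvd_mul (by norm_num)).1 h2).resolve_right h1
  have hXt := NoSub.eq_top X hX7 hX11
  have hst : MulAction.stabilizer H v = ⊤ := by
    have hdec : ∀ g : H, ∃ s ∈ MulAction.stabilizer H v, ∃ k ∈ center H, g = s * k := by
      intro g
      have h1 : ψ g ∈ X := by rw [hXt]; exact mem_top _
      obtain ⟨s, hs, hsg⟩ := h1
      refine ⟨s, hs, s⁻¹ * g, hKc ?_, by group⟩
      rw [← hψk, map_mul, map_inv, hsg, inv_mul_cancel]
    rw [← top_le_iff, ← h.perf, _root_.commutator_def, commutator_le]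
    intro g₁ _ g₂ _
    obtain ⟨s, hs, k, hk, rfl⟩ := hdec g₁
    obtain ⟨t, ht, l, hl, rfl⟩ := hdec g₂
    have hk' := mem_center_iff.1 hk
    have hl' := mem_center_iff.1 hl
    have h1 : ⁅s * k, t * l⁆ = ⁅s, t⁆ := by
      rw [commutatorElement_def, commutatorElement_def]
      calc s * k * (t * l) * (s * k)⁻¹ * (t * l)⁻¹ = s * (k * t) * l * k⁻¹ * s⁻¹ * l⁻¹ * t⁻¹ := by group
        _ = s * t * (k * l) * k⁻¹ * s⁻¹ * l⁻¹ * t⁻¹ := by rw [← hk' t]; group
        _ = s * t * (l * s⁻¹) * l⁻¹ * t⁻¹ := by rw [hl' k]; group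
        _ = _ := by rw [← hl' s⁻¹]; group
    rw [h1]
    exact mul_mem (mul_mem (mul_mem hs ht) (inv_mem hs)) (inv_mem ht)
  let W : AddSubgroup V :=
    { carrier := {w | ∀ g : H, g • w = w}
      add_mem' := fun {a b} ha hb g => by rw [smul_add, ha g, hb g]
      zero_mem' := fun g => smul_zero g
      neg_mem' := fun {a} ha g => by rw [smul_neg, ha g] }
  have hvW : v ∈ W := by
    intro g
    have : g ∈ MulAction.stabilizer H v := by rw [hst]; exact mem_top g
    exact this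
  have hW := h.irr W (fun g w hw => by rw [hw g]; exact hw)
  rcases hW with hW | hW
  · apply hv0
    rw [hW] at hvW
    exact hvW
  · apply h.Kt
    rw [← top_le_iff]
    intro g _
    apply h.NK
    rw [← h.ker]
    intro w
    have : w ∈ W := by rw [hW]; exact AddSubgroup.mem_top w
    exact this g

end Cfsg.Agent.H956.RIM.M22
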